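import Mathlib.RingTheory.Localization.AtPrime.Basic
import Mathlib.RingTheory.Ideal.Pointwise
import Mathlib.RingTheory.Nakayama
import Mathlib.RingTheory.Noetherian.Basic
import Mathlib.RingTheory.Ideal.Quotient.Operations
import Mathlib.Algebra.Ring.Action.Invariant
import Mathlib.Algebra.Ring.Subring.Basic
import Mathlib.GroupTheory.GroupAction.Quotient
import Mathlib.GroupTheory.OrderOfElement
import Mathlib.RingTheory.LocalRing.RingHom.Basic
import Mathlib.RingTheory.Localization.Submodule
import Mathlib.RingTheory.Finiteness.Basic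
import Mathlib.RingTheory.Ideal.Maps
import Mathlib.Algebra.Polynomial.Eval.Coeff

/-!
# Invariants of a subgroup containing the decomposition group are unramified
-/

namespace Groth.Agent.InvLocal25

open Polynomial IsLocalRing
open scoped Pointwise

universe u v

section generic

variable {B S : Type u} [CommRing B] [CommRing S] [IsNoetherianRing S] (f : B →+* S)
  (q : Ideal S) [q.IsPrime]

/-- If traces approximate multiplication by `s₀^N` then the local map is an isomorphism modulo all
powers of the maximal ideals. -/
theorem bijective_mod_pow (T : ℕ → S →+ B) (hT : ∀ N b x, T N (f b * x) = b * T N x)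
    (s₀ : S) (hs₀ : s₀ ∉ q) (N : ℕ → ℕ) (hN : ∀ n x, f (T (N n) x) - s₀ ^ N n * x ∈ q ^ n) (n : ℕ) :
    let φ := Localization.localRingHom (q.comap f) q f rfl
    Function.Surjective ((Ideal.Quotient.mk (maximalIdeal (Localization.AtPrime q) ^ n)).comp φ) ∧
      Ideal.comap φ (maximalIdeal (Localization.AtPrime q) ^ n) =
        maximalIdeal (Localization.AtPrime (q.comap f)) ^ n := by
  intro φ
  have hmq : q.map (algebraMap S (Localization.AtPrime q)) = maximalIdeal (Localization.AtPrime q) :=
    Localization.AtPrime.map_eq_maximalIdeal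
  have hmp : (q.comap f).map (algebraMap B (Localization.AtPrime (q.comap f))) =
      maximalIdeal (Localization.AtPrime (q.comap f)) := Localization.AtPrime.map_eq_maximalIdeal
  have hpow : ∀ m x, x ∈ q ^ m →
      algebraMap S (Localization.AtPrime q) x ∈ maximalIdeal (Localization.AtPrime q) ^ m := fun m x hx => by
    rw [← hmq, ← Ideal.map_pow]; exact Ideal.mem_map_of_mem _ hx
  have hnot : ∀ m s, s ∉ q → f (T (N (m + 1)) s) ∉ q := by
    intro m s hs h
    have h1 : f (T (N (m + 1)) s) - s₀ ^ N (m + 1) * s ∈ q :=
      Ideal.pow_le_self (Nat.succ_ne_zero m) (hN (m + 1) s)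
    have h2 : s₀ ^ N (m + 1) * s ∈ q := by
      have := sub_mem h h1; rwa [sub_sub_cancel] at this
    rcases (Ideal.IsPrime.mem_or_mem ‹_› h2) with h3 | h3
    · exact hs₀ (Ideal.IsPrime.mem_of_pow_mem ‹_› _ h3)
    · exact hs h3
  -- approximation of any element
  have happrox : ∀ m (x : Localization.AtPrime q), ∃ y,
      φ y - x ∈ maximalIdeal (Localization.AtPrime q) ^ m := by
    intro m x
    obtain ⟨a, s, rfl⟩ := IsLocalization.exists_mk'_eq q.primeCompl x
    set M := N (m + 1)
    let ys : (q.comap f).primeCompl := ⟨T M s, hnot m s s.2⟩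
    refine ⟨IsLocalization.mk' _ (T M a) ys, ?_⟩
    show Localization.localRingHom (q.comap f) q f rfl (IsLocalization.mk' _ (T M a) ys) - _ ∈ _
    rw [Localization.localRingHom_mk']
    have h : f (T M a) * (s : S) - a * f (T M s) ∈ q ^ m := by
      refine Ideal.pow_le_pow_right (Nat.le_succ m) ?_
      rw [show f (T M a) * (s : S) - a * f (T M s) =
        (f (T M a) - s₀ ^ M * a) * (s : S) - a * (f (T M s) - s₀ ^ M * (s : S)) by ring]
      exact sub_mem (Ideal.mul_mem_right _ _ (hN _ _)) (Ideal.mul_mem_left _ _ (hN _ _))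
    rw [← IsLocalization.mk'_sub]
    rw [IsLocalization.mk'_eq_mul_mk'_one]
    exact Ideal.mul_mem_right _ _ (hpow m _ (by simpa [mul_comm] using h))
  -- the maximal ideal is extended
  have hgen : maximalIdeal (Localization.AtPrime q) =
      ((q.comap f).map f).map (algebraMap S (Localization.AtPrime q)) := by
    refine le_antisymm ?_ ?_
    · refine Submodule.le_of_le_smul_of_le_jacobson_bot (IsNoetherian.noetherian _)
        (IsLocalRing.maximalIdeal_le_jacobson _) ?_
      intro x hx
      obtain ⟨y, hy⟩ := happrox 2 x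
      have hy' : φ y ∈ maximalIdeal (Localization.AtPrime q) := by
        have := Ideal.add_mem _ (Ideal.pow_le_self two_ne_zero hy) hx
        rwa [sub_add_cancel] at this
      haveI : IsLocalHom φ := Localization.isLocalHom_localRingHom _ _ _ _
      have hym : y ∈ maximalIdeal (Localization.AtPrime (q.comap f)) := fun h => hy' (h.map φ)
      rw [← hmp] at hym
      have h1 : φ y ∈ ((q.comap f).map f).map (algebraMap S (Localization.AtPrime q)) := by
        have h2 := Ideal.mem_map_of_mem φ hym
        rw [Ideal.map_map] at h2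
        rw [Ideal.map_map]
        rwa [show φ.comp (algebraMap B _) = (algebraMap S (Localization.AtPrime q)).comp f from
          RingHom.ext fun b => Localization.localRingHom_to_map (q.comap f) q f rfl b] at h2
      rw [← sub_add_cancel x (φ y), smul_eq_mul, ← pow_two]
      exact add_mem (Ideal.mem_sup_right (by simpa using neg_mem hy)) (Ideal.mem_sup_left h1)
    · exact (Ideal.map_mono Ideal.map_comap_le).trans hmq.le
  refine ⟨fun z => ?_, le_antisymm ?_ ?_⟩
  · obtain ⟨x, rfl⟩ := Ideal.Quotient.mk_surjective z
    obtain ⟨y, hy⟩ := happrox n x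
    exact ⟨y, Ideal.Quotient.eq.2 hy⟩
  · intro y hy
    obtain ⟨a, s, rfl⟩ := IsLocalization.exists_mk'_eq (q.comap f).primeCompl y
    rw [Ideal.mem_comap, show φ = Localization.localRingHom (q.comap f) q f rfl from rfl,
      Localization.localRingHom_mk', hgen, ← Ideal.map_pow, ← Ideal.map_pow,
      IsLocalization.mk'_mem_map_algebraMap_iff] at hy
    obtain ⟨t, ht, hta⟩ := hy
    set M := N 1
    have hsub : ∀ x ∈ ((q.comap f) ^ n).map f, T M x ∈ (q.comap f) ^ n := by
      intro x hx
      induction hx using Submodule.span_induction with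
      | mem z hz =>
        obtain ⟨b, hb, rfl⟩ := hz
        rw [← mul_one (f b), hT]
        exact Ideal.mul_mem_right _ _ hb
      | zero => rw [map_zero]; exact zero_mem _
      | add z w _ _ hz hw => rw [map_add]; exact add_mem hz hw
      | smul c z hz' hz =>
        clear hz
        induction hz' using Submodule.span_induction generalizing c with
        | mem z hz =>
          obtain ⟨b, hb, rfl⟩ := hz
          rw [smul_eq_mul, mul_comm, hT]
          exact Ideal.mul_mem_right _ _ hb
        | zero => rw [smul_zero, map_zero]; exact zero_mem _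
        | add z w _ _ hz hw => rw [smul_add, map_add]; exact add_mem (hz c) (hw c)
        | smul d z _ hz => rw [smul_smul]; exact hz _
    have h1 : T M t * a ∈ (q.comap f) ^ n := by
      rw [mul_comm, ← hT, mul_comm]
      exact hsub _ hta
    rw [← hmp, ← Ideal.map_pow, IsLocalization.mk'_mem_map_algebraMap_iff (q.comap f).primeCompl]
    exact ⟨T M t, hnot 0 t ht, h1⟩
  · rw [← Ideal.map_le_iff_le_comap, Ideal.map_pow]
    refine Ideal.pow_right_mono ?_ n
    haveI : IsLocalHom φ := Localization.isLocalHom_localRingHom _ _ _ _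
    exact ((IsLocalRing.local_hom_TFAE φ).out 0 2).1 ‹_›

end generic

variable {G R : Type u} [Group G] [Finite G] [CommRing R] [MulSemiringAction G R]

theorem smul_eq_of_le {q : Ideal R} {g : G} (h : g • q ≤ q) : g • q = q := by
  refine le_antisymm h ?_
  have key : ∀ k : ℕ, g ^ (k + 1) • q ≤ g • q := by
    intro k
    induction k with
    | zero => rw [pow_one]
    | succ k ih =>
      rw [pow_succ, mul_smul]
      exact (smul_mono_right _ h).trans ih
  have := key (orderOf g - 1)
  rwa [Nat.sub_add_cancel (orderOf_pos g), pow_orderOf_eq_one, one_smul] at this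

theorem exists_separating (H : Subgroup G) (q : Ideal R) [q.IsPrime]
    (hD : MulAction.stabilizer G q ≤ H) :
    ∃ s : FixedPoints.subring R H, (s : R) ∉ q ∧ ∀ g : G, g ∉ H → g • (s : R) ∈ q := by
  classical
  cases nonempty_fintype G
  cases nonempty_fintype H
  let I : Ideal R := ∏ g ∈ Finset.univ.filter (fun g : G => g ∉ H), g • q
  haveI : ∀ g : G, (g • q).IsPrime := fun g => Ideal.IsPrime.smul g
  have hI : ¬ (I : Set R) ⊆ ⋃ h ∈ ((Finset.univ : Finset H) : Set H), ((h : G) • q : Ideal R) := by
    intro hsub
    obtain ⟨h, -, hle⟩ := (Ideal.subset_union_prime (1 : H) (1 : H) fun h _ _ _ => inferInstance).1 hsub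
    obtain ⟨g, hg, hgle⟩ := (Ideal.IsPrime.prod_le (P := (h : G) • q) inferInstance).1 hle
    have h1 : ((h : G)⁻¹ * g) • q ≤ q := by
      have := smul_mono_right (h : G)⁻¹ hgle
      rwa [inv_smul_smul, ← mul_smul] at this
    have h2 := hD (smul_eq_of_le h1)
    exact (Finset.mem_filter.1 hg).2 (by simpa using H.mul_mem h.2 h2)
  obtain ⟨a, ha, hau⟩ := Set.not_subset.1 hI
  simp only [Set.mem_iUnion, not_exists] at hau
  refine ⟨⟨∏ h : H, (h : G) • a, fun h => ?_⟩, ?_, ?_⟩
  · show (h : G) • (∏ l : H, (l : G) • a) = _
    rw [Finset.smul_prod']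
    exact Fintype.prod_equiv (Equiv.mulLeft h) _ _ fun l => (mul_smul (h : G) (l : G) a).symm
  · intro hmem
    obtain ⟨h, -, hh⟩ := (Ideal.IsPrime.prod_mem_iff (hp := ‹q.IsPrime›)).1 hmem
    refine hau h⁻¹ (by simp) ?_
    rw [SetLike.mem_coe, Ideal.mem_pointwise_smul_iff_inv_smul_mem, Subgroup.coe_inv, inv_inv]
    exact hh
  · intro g hg
    show g • (∏ h : H, (h : G) • a) ∈ q
    rw [Finset.smul_prod']
    refine Ideal.mem_of_dvd _ (Finset.dvd_prod_of_mem _ (Finset.mem_univ (1 : H))) ?_
    rw [Subgroup.coe_one, one_smul]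
    have hle : I ≤ g⁻¹ • q := Ideal.prod_le_inf.trans (Finset.inf_le
      (Finset.mem_filter.2 ⟨Finset.mem_univ _, fun h => hg (by simpa using H.inv_mem h)⟩))
    have := hle ha
    rwa [Ideal.mem_pointwise_smul_iff_inv_smul_mem, inv_inv] at this

/-- Action of a coset on a fixed element. -/
def cosetSmul (H : Subgroup G) (x : FixedPoints.subring R H) (c : G ⧸ H) : R :=
  Quotient.liftOn' c (fun g => g • (x : R)) fun a b hab => by
    have h := x.2 ⟨a⁻¹ * b, QuotientGroup.leftRel_apply.1 hab⟩
    change (a⁻¹ * b) • (x : R) = x at h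
    show a • (x : R) = b • (x : R)
    conv_lhs => rw [← h, ← mul_smul, mul_inv_cancel_left]

theorem cosetSmul_mk (H : Subgroup G) (x : FixedPoints.subring R H) (g : G) :
    cosetSmul H x (g : G ⧸ H) = g • (x : R) := rfl

theorem smul_cosetSmul (H : Subgroup G) (x : FixedPoints.subring R H) (g : G) (c : G ⧸ H) :
    g • cosetSmul H x c = cosetSmul H x (g • c) := by
  induction c using QuotientGroup.induction_on with
  | H a => exact (mul_smul g a (x : R)).symm

theorem main [IsNoetherianRing (FixedPoints.subring R G)] [Module.Finite (FixedPoints.subring R G) R]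
    (H : Subgroup G) (q : Ideal R) [q.IsPrime] (hD : MulAction.stabilizer G q ≤ H)
    (hle : FixedPoints.subring R G ≤ FixedPoints.subring R H) (n : ℕ) :
    let q' : Ideal (FixedPoints.subring R H) := Ideal.comap (FixedPoints.subring R H).subtype q
    let φ := Localization.localRingHom (Ideal.comap (Subring.inclusion hle) q') q' (Subring.inclusion hle) rfl
    Function.Surjective ((Ideal.Quotient.mk (maximalIdeal (Localization.AtPrime q') ^ n)).comp φ) ∧
      Ideal.comap φ (maximalIdeal (Localization.AtPrime q') ^ n) =
        maximalIdeal (Localization.AtPrime (Ideal.comap (Subring.inclusion hle) q')) ^ n := by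
  classical
  intro q'
  let B := FixedPoints.subring R G
  let S := FixedPoints.subring R H
  let f : B →+* S := Subring.inclusion hle
  letI : Algebra B S := f.toAlgebra
  haveI : IsNoetherian B S := isNoetherian_of_injective
    ({ toFun := fun x : S => (x : R)
       map_add' := fun _ _ => rfl
       map_smul' := fun _ _ => rfl } : S →ₗ[B] R) Subtype.val_injective
  haveI : IsNoetherianRing S := IsNoetherianRing.of_finite B S
  obtain ⟨s₀, hs₀, hs⟩ := exists_separating H q hD
  cases nonempty_fintype G
  haveI : Fintype (G ⧸ H) := Fintype.ofSurjective (QuotientGroup.mk : G → G ⧸ H) Quotient.mk''_surjective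
  let T : ℕ → S →+ B := fun N =>
    { toFun := fun x => ⟨∑ c, cosetSmul H (s₀ ^ N * x) c, fun g => by
        rw [Finset.smul_sum]
        exact Fintype.sum_equiv (MulAction.toPerm g) _ _ fun c => smul_cosetSmul H _ g c⟩
      map_zero' := Subtype.ext (Finset.sum_eq_zero fun c _ => by
        induction c using QuotientGroup.induction_on with
        | H a => rw [cosetSmul_mk]; simp)
      map_add' := fun x y => Subtype.ext (by
        show _ = (∑ c, _) + ∑ c, _
        rw [← Finset.sum_add_distrib]
        refine Finset.sum_congr rfl fun c _ => ?_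
        induction c using QuotientGroup.induction_on with
        | H a => simp only [cosetSmul_mk, mul_add, Subring.coe_add, smul_add]) }
  have hT : ∀ N b x, T N (f b * x) = b * T N x := fun N b x => Subtype.ext (by
    show (∑ c, _) = (b : R) * ∑ c, _
    rw [Finset.mul_sum]
    refine Finset.sum_congr rfl fun c _ => ?_
    induction c using QuotientGroup.induction_on with
    | H a =>
      simp only [cosetSmul_mk, Subring.coe_mul, smul_mul']
      rw [show a • ((f b : S) : R) = (b : R) from b.2 a]
      ring)
  let Q : Finset (G ⧸ H) := Finset.univ.erase ((1 : G) : G ⧸ H)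
  let U : ℕ → S → S := fun N x => f (T N x) - s₀ ^ N * x
  have hU : ∀ N x, ((U N x : S) : R) = ∑ c ∈ Q, cosetSmul H (s₀ ^ N * x) c := by
    intro N x
    show (∑ c, cosetSmul H (s₀ ^ N * x) c) - ((s₀ ^ N * x : S) : R) = _
    rw [← Finset.add_sum_erase _ _ (Finset.mem_univ ((1 : G) : G ⧸ H)), cosetSmul_mk, one_smul,
      add_sub_cancel_left]
  let P : R[X] := ∏ c ∈ Q, (X - C (cosetSmul H s₀ c))
  have hQq : ∀ c ∈ Q, cosetSmul H s₀ c ∈ q := by
    intro c hc
    induction c using QuotientGroup.induction_on with
    | H a =>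
      refine hs a fun ha => (Finset.mem_erase.1 hc).1 ?_
      exact QuotientGroup.eq.2 (by simpa using ha)
  have hPc : ∀ i, P.coeff i ∈ S := by
    intro i h
    show (h : G) • P.coeff i = P.coeff i
    have hP : P.map (MulSemiringAction.toRingHom G R (h : G)) = P := by
      simp only [P, Polynomial.map_prod, Polynomial.map_sub, Polynomial.map_X, Polynomial.map_C,
        MulSemiringAction.toRingHom_apply, smul_cosetSmul]
      refine Finset.prod_equiv (MulAction.toPerm (h : G)) (fun c => ?_) fun c _ => rfl
      have hfix : (h : G) • ((1 : G) : G ⧸ H) = ((1 : G) : G ⧸ H) :=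
        (QuotientGroup.eq.2 (by simp [h.2]) : (((h : G) * 1 : G) : G ⧸ H) = ((1 : G) : G ⧸ H))
      simp only [Q, Finset.mem_erase, Finset.mem_univ, and_true, ne_eq, MulAction.toPerm_apply]
      constructor
      · exact fun hc h' => hc (MulAction.injective (h : G) (h'.trans hfix.symm))
      · exact fun hc h' => hc (by rw [h', hfix])
    conv_rhs => rw [← hP, Polynomial.coeff_map]
    rfl
  have hlow : ∀ i < Q.card, (⟨_, hPc i⟩ : S) ∈ q' := by
    intro i hi
    show P.coeff i ∈ q
    rw [← Ideal.Quotient.eq_zero_iff_mem, ← Polynomial.coeff_map]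
    simp only [P, Polynomial.map_prod, Polynomial.map_sub, Polynomial.map_X, Polynomial.map_C]
    rw [Finset.prod_congr rfl fun c hc => by rw [Ideal.Quotient.eq_zero_iff_mem.2 (hQq c hc), map_zero, sub_zero],
      Finset.prod_const, Polynomial.coeff_X_pow, if_neg hi.ne]
  have hmonic : P.Monic := monic_prod_of_monic _ _ fun c _ => monic_X_sub_C _
  have hdeg : P.natDegree ≤ Q.card := by
    refine (Polynomial.natDegree_prod_le _ _).trans ?_
    exact (Finset.sum_le_card_nsmul _ _ 1 fun c _ => Polynomial.natDegree_X_sub_C_le _).trans (by simp)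
  have htop : P.coeff Q.card = 1 := by
    rcases subsingleton_or_nontrivial R with hR | hR
    · exact Subsingleton.elim _ _
    have : P.natDegree = Q.card := by
      simp only [P]
      rw [Polynomial.natDegree_prod_of_monic _ _ fun c _ => monic_X_sub_C _]
      simp
    rw [← this]; exact hmonic
  have hrec : ∀ (j : ℕ) (x : S), ∑ i ∈ Finset.range (Q.card + 1), (⟨_, hPc i⟩ : S) * U (j + i) x = 0 := by
    intro j x
    apply Subtype.ext
    rw [Subring.coe_zero, AddSubmonoidClass.coe_finset_sum]
    simp only [Subring.coe_mul, hU, Finset.mul_sum]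
    rw [Finset.sum_comm]
    refine Finset.sum_eq_zero fun c hc => ?_
    have hroot : P.eval (cosetSmul H s₀ c) = 0 := by
      simp only [P, Polynomial.eval_prod]
      exact Finset.prod_eq_zero hc (by simp)
    rw [Polynomial.eval_eq_sum_range' (Nat.lt_succ_of_le hdeg)] at hroot
    induction c using QuotientGroup.induction_on with
    | H a =>
      rw [cosetSmul_mk] at hroot
      calc _ = ∑ i ∈ Finset.range (Q.card + 1), (P.coeff i * (a • (s₀ : R)) ^ i) * a • ((s₀ ^ j * x : S) : R) :=
            Finset.sum_congr rfl fun i _ => by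
              simp only [cosetSmul_mk, Subring.coe_mul, SubmonoidClass.coe_pow, smul_mul', smul_pow', pow_add]
              ring
        _ = 0 := by rw [← Finset.sum_mul, hroot, zero_mul]
  have hest : ∀ k j, Q.card * k ≤ j → ∀ x, U j x ∈ q' ^ k := by
    intro k
    induction k with
    | zero => intro j _ x; simp
    | succ k ih =>
      intro j hj x
      rw [Nat.mul_succ] at hj
      have h := hrec (j - Q.card) x
      rw [Finset.sum_range_succ, show (⟨_, hPc Q.card⟩ : S) = 1 from Subtype.ext htop, one_mul,
        Nat.sub_add_cancel (by omega), add_eq_zero_iff_eq_neg'] at h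
      rw [h, pow_succ']
      refine neg_mem (sum_mem fun i hi => Ideal.mul_mem_mul (hlow i (Finset.mem_range.1 hi)) (ih _ (by omega) x))
  exact bijective_mod_pow f q' T hT s₀ hs₀ (fun n => Q.card * n) (fun n x => hest n _ le_rfl x) n

end Groth.Agent.InvLocal25
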